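import Groth.Agent.Lib.Ample.CocPullback
import Groth.Agent.Lib.Ample.ProjTwist
import Mathlib.AlgebraicGeometry.ProjectiveSpectrum.Functor

/-!
# The pullback of `O(1)` along `Proj.map`
-/

universe u

set_option backward.isDefEq.respectTransparency false

open AlgebraicGeometry CategoryTheory CategoryTheory.Limits TopologicalSpace Opposite HomogeneousIdeal
open GrothLib.InvExt (mres IsGen)
open GrothLib.Ample (Cocycle res)
open GrothLib.Ample.ProjTwist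

noncomputable section

namespace GrothLib.Hyperplane

variable {R A B : Type u} [CommRing R] [CommRing A] [Algebra R A] [CommRing B] [Algebra R B]
  {𝒜 : ℕ → Submodule R A} {ℬ : ℕ → Submodule R B} [GradedAlgebra 𝒜] [GradedAlgebra ℬ]
  (ψ : 𝒜 →+*ᵍ ℬ) (hψ : ℬ₊ ≤ 𝒜₊.map ψ)

theorem ev_appLE_fracO {V : (Proj 𝒜).Opens} {W : (Proj ℬ).Opens} (h : W ≤ Proj.map ψ hψ ⁻¹ᵁ V)
    {d : ℕ} (a b : A) (ha : a ∈ 𝒜 d) (hb : b ∈ 𝒜 d) (nin : ∀ y : V, b ∉ y.1.asHomogeneousIdeal) (y : W)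
    (hy : ψ b ∉ y.1.asHomogeneousIdeal) :
    ev y (((Proj.map ψ hψ).appLE V W h).hom (fracO a b ha hb nin)) = Localization.mk (ψ a) ⟨ψ b, hy⟩ := by
  show ev ⟨y.1, h y.2⟩ (((Proj.map ψ hψ).app V).hom (fracO a b ha hb nin)) = _
  refine (HomogeneousLocalization.val_localRingHom _).trans ?_
  erw [HomogeneousLocalization.val_mk]
  erw [Localization.localRingHom_mk]
  all_goals rfl

include hψ in
/-- `O(1)` pulls back to `O(1)` along `Proj.map`. -/
theorem nonempty_pullback_twist_one {ι : Type u} (x : ι → A) (hx : ∀ i, x i ∈ 𝒜 1)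
    (hcov : ⨆ i, Proj.basicOpen 𝒜 (x i) = ⊤) :
    Nonempty ((Scheme.Modules.pullback (Proj.map ψ hψ)).obj (Twist.twist 𝒜 ((1 : ℕ) : ℤ)) ≅
      Twist.twist ℬ ((1 : ℕ) : ℤ)) := by
  let j := Proj.map ψ hψ
  let P := cocycle 𝒜 x hx hcov
  let Q := P.comap j
  have hpre : ∀ i, Q.D i = Proj.basicOpen ℬ (ψ (x i)) := fun i => Proj.map_preimage_basicOpen ψ hψ (x i)
  let m : ∀ i, Γ(Twist.twist ℬ ((1 : ℕ) : ℤ), Q.D i) := fun i =>
    mres (Twist.twist ℬ ((1 : ℕ) : ℤ)) le_top (gsec ℬ (ψ (x i) ^ 1) (pow_mem ℬ (ψ.2 (hx i)) 1))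
  have hm : Q.IsFamily 1 m := by
    intro i k W hi hk
    refine evT_ext fun y => ?_
    have hyi : ψ (x i) ∉ y.1.asHomogeneousIdeal := ((hpre i).le (hi y.2) : y.1 ∈ Proj.basicOpen ℬ (ψ (x i)))
    rw [evT_smul, ev_pow, evT_mres, evT_mres, evT_mres, evT_mres, evT_gsec, evT_gsec, pow_one]
    have hG : ev y (Q.G i k hi hk) = Localization.mk (ψ (x k)) ⟨ψ (x i), hyi⟩ := by
      rw [show Q.G i k hi hk = _ from P.comap_G j i k hi hk]
      exact ev_appLE_fracO ψ hψ _ _ _ _ _ _ y hyi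
    rw [hG, ← Localization.mk_one_eq_algebraMap, ← Localization.mk_one_eq_algebraMap,
      pow_one, Localization.mk_mul, Localization.mk_eq_mk_iff, Localization.r_iff_exists]
    exact ⟨1, by simp only [OneMemClass.coe_one, one_mul, Submonoid.coe_mul, pow_one, mul_one]; ring⟩
  have hgen : ∀ i, IsGen (Twist.twist ℬ ((1 : ℕ) : ℤ)) (Q.D i) (m i) := fun i => by
    have h := (isGen_gsec (𝒜 := ℬ) (ψ.2 (hx i)) 1).restrict (hpre i).le
    rw [InvExt.mres_mres] at h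
    exact h
  haveI := Q.isIso_homOfFamily hm hgen
  exact ⟨(P.nonempty_pullback_iso j (asIso (toTwist 𝒜 x hx hcov 1)).symm).some ≪≫
    asIso (Q.homOfFamily hm)⟩

end GrothLib.Hyperplane
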