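import Groth.Agent.Lib.Ample.ProjTwist
import Groth.Agent.Lib.Ample.Twisting
import Groth.Agent.Lib.GradedAlg.ProjClosed
import Groth.Agent.Lib.QCoh.SchSupport
import Groth.Agent.Lib.QCoh.GenericPoint
import Groth.Agent.Lib.QCoh.Extension
import Groth.Agent.Lib.Euler.Coh
import Groth.Agent.Lib.Cohom.Exact
import Groth.Prelude.Def_PicF2

/-!
# The zero scheme of a linear form on `Proj`
-/

universe u

set_option backward.isDefEq.respectTransparency false

open AlgebraicGeometry CategoryTheory CategoryTheory.Limits TopologicalSpace Opposite HomogeneousIdeal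
open DirectSum HomogeneousLocalization
open GrothLib.InvExt (mres IsGen)
open GrothLib.Ample (res)
open GrothLib.Ample.ProjTwist
open GrothLib.GradedAlg (dPlus frac awayToSection_bijective)

noncomputable section

namespace GrothLib.Hyperplane

theorem secVal_eq_mres {X : Scheme.{u}} (L : X.Modules) (s : Coh.structureModule X ⟶ L) (W : X.Opens) :
    (show Γ(L, W) from PicF2.secVal L s W) =
      mres L (le_top : W ≤ ⊤) (show Γ(L, ⊤) from PicF2.secVal L s ⊤) := by
  refine Eq.trans ?_ (Ample.app_mres s (le_top : W ≤ ⊤)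
    (show Γ(Coh.structureModule X, ⊤) from (1 : X.ringCatSheaf.obj.obj (op ⊤))))
  exact congrArg (fun z : Γ(X, W) => s.app W z) (map_one (X.presheaf.map (homOfLE (le_top : W ≤ ⊤)).op).hom).symm

theorem app_eq_smul_secVal {X : Scheme.{u}} (L : X.Modules) (s : Coh.structureModule X ⟶ L) (U : X.Opens)
    (b : Γ(X, U)) : s.app U b = b • (show Γ(L, U) from PicF2.secVal L s U) := by
  refine Eq.trans ?_ ((s.val.app (op U)).hom.map_smul b (1 : X.ringCatSheaf.obj.obj (op U)))
  exact congrArg (s.val.app (op U)).hom (mul_one b).symm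

/-- On a Noetherian scheme the zero scheme of a monomorphic section has the expected ideals. -/
theorem zeroScheme_ideal {X : Scheme.{u}} [IsNoetherian X] {L : X.Modules} (hL : PicF.IsInvertible L)
    (s : Coh.structureModule X ⟶ L) [Mono s] (U : X.affineOpens) :
    (PicF2.zeroScheme L s).ideal U = (show Ideal Γ(X, U) from PicF2.zeroIdealOn L s U.1) := by
  have hO : Coh.IsCoh (Coh.structureModule X) := Euler.isCoh_of_isInvertible Euler.isInvertible_structure
  have hQ : Coh.IsCoh (cokernel s) := QCoh.isCoh_cokernel s hO (Euler.isCoh_of_isInvertible hL)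
  haveI := hQ.1
  let S : ShortComplex X.Modules := ShortComplex.mk s (cokernel.π s) (cokernel.condition s)
  have hS : S.ShortExact := by
    haveI : Mono S.f := ‹Mono s›
    exact { exact := ShortComplex.exact_of_g_is_cokernel _ (cokernelIsCokernel s) }
  haveI : S.X₁.IsQuasicoherent := hO.1
  have hideal : (fun U : X.affineOpens => show Ideal Γ(X, U) from PicF2.zeroIdealOn L s U.1) =
      (QCoh.annIdeal (cokernel s) hQ.2).ideal := by
    funext U
    ext a
    rw [QCoh.annIdeal_ideal, Module.mem_annihilator]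
    constructor
    · intro h q
      obtain ⟨m, rfl⟩ := QCoh.app_surjective_of_isAffineOpen hS U.2 q
      obtain ⟨b, hb⟩ := h m
      refine (Ample.app_smul (cokernel.π s) a m).symm.trans ?_
      refine (congrArg ((cokernel.π s).app U.1) (hb.trans (app_eq_smul_secVal L s U.1 b).symm)).trans ?_
      rw [← ConcreteCategory.comp_apply, ← Scheme.Modules.Hom.comp_app, cokernel.condition]
      rfl
    · intro h m
      obtain ⟨b, hb⟩ := Cohom.sections_exact (QCoh.toAbFun_map_shortExact S hS) U.1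
        ((show Γ(X, U.1) from a) • (show Γ(L, U.1) from m))
        ((Ample.app_smul (cokernel.π s) a m).trans (h _))
      exact ⟨b, hb.symm.trans (app_eq_smul_secVal L s U.1 b)⟩
  rw [PicF2.zeroScheme, hideal, Scheme.IdealSheafData.ofIdeals_ideal]
  exact (congrFun hideal U).symm

variable {R A B : Type u} [CommRing R] [CommRing A] [Algebra R A] [CommRing B] [Algebra R B]
  {𝒜 : ℕ → Submodule R A} {ℬ : ℕ → Submodule R B} [GradedAlgebra 𝒜] [GradedAlgebra ℬ]

theorem ev_awayToSection_frac {x : A} (hx : x ∈ 𝒜 1) (n : ℕ) (a : A) (ha : a ∈ 𝒜 n)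
    (y : Proj.basicOpen 𝒜 x) :
    ev y (Proj.awayToSection 𝒜 x (frac 𝒜 hx n a ha)) = Localization.mk a ⟨x ^ n, pow_notMem 𝒜 n y.2⟩ := by
  refine (ProjectiveSpectrum.Proj.awayToSection_apply _ _ _ _).trans ?_
  rw [HomogeneousLocalization.Away.val_mk, Localization.mk_eq_mk', IsLocalization.map_mk',
    Localization.mk_eq_mk']
  rfl

/-- An element of degree `m` in the ideal of a linear form is a multiple by an element of degree `m - 1`. -/
theorem exists_eq_mul_of_mem_span {l : A} (hl : l ∈ 𝒜 1) {m : ℕ} {a : A} (ha : a ∈ 𝒜 (m + 1))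
    (h : a ∈ Ideal.span ({l} : Set A)) : ∃ b ∈ 𝒜 m, a = l * b := by
  obtain ⟨c, rfl⟩ := Ideal.mem_span_singleton'.mp h
  refine ⟨(decompose 𝒜 c m : 𝒜 m), (decompose 𝒜 c m).2, ?_⟩
  have h1 := DirectSum.coe_decompose_mul_of_right_mem_of_le 𝒜 (a := c) (n := m + 1) hl (by omega)
  rw [DirectSum.decompose_of_mem_same 𝒜 ha] at h1
  rw [h1, Nat.add_sub_cancel, mul_comm]

theorem isUnit_algebraMap {x : A} {W : (Proj 𝒜).Opens} (hW : W ≤ Proj.basicOpen 𝒜 x) (y : W) :
    IsUnit (algebraMap A (Twist.Loc 𝒜 y.1) x) :=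
  IsLocalization.map_units _ (⟨x, hW y.2⟩ : y.1.asHomogeneousIdeal.toIdeal.primeCompl)

variable {l : A} (hl : l ∈ 𝒜 1) (s : Coh.structureModule (Proj 𝒜) ⟶ Twist.twist 𝒜 ((1 : ℕ) : ℤ))
  (hs : (show Γ(Twist.twist 𝒜 ((1 : ℕ) : ℤ), ⊤) from PicF2.secVal _ s ⊤) = gsec 𝒜 l hl)

include hs in
theorem evT_app (W : (Proj 𝒜).Opens) (r : Γ(Proj 𝒜, W)) (y : W) :
    evT y (s.app W r) = ev y r * algebraMap A _ l := by
  rw [app_eq_smul_secVal, evT_smul, secVal_eq_mres, hs, evT_mres, evT_gsec]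

include hs in
theorem mono_of_ne_zero [IsDomain A] (hl0 : l ≠ 0) : Mono s := by
  refine QCoh.mono_of_app_injective _ fun W => ?_
  intro (r : Γ(Proj 𝒜, W)) (r' : Γ(Proj 𝒜, W)) h
  refine ev_ext fun y => ?_
  have e := congrArg (evT y) h
  rw [evT_app hl s hs, evT_app hl s hs] at e
  have hle : y.1.asHomogeneousIdeal.toIdeal.primeCompl ≤ nonZeroDivisors A :=
    y.1.asHomogeneousIdeal.toIdeal.primeCompl_le_nonZeroDivisors
  haveI : IsDomain (Twist.Loc 𝒜 y.1) := IsLocalization.isDomain_localization hle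
  exact mul_right_cancel₀ ((map_ne_zero_iff _ (IsLocalization.injective (Twist.Loc 𝒜 y.1) hle)).mpr hl0) e

include hs in
theorem zeroIdealOn_basicOpen {x : A} (hx : x ∈ 𝒜 1) :
    (show Ideal Γ(Proj 𝒜, Proj.basicOpen 𝒜 x) from PicF2.zeroIdealOn _ s (Proj.basicOpen 𝒜 x)) =
      Ideal.span {(Proj.awayToSection 𝒜 x).hom (frac 𝒜 hx 1 l hl)} := by
  let U := Proj.basicOpen 𝒜 x
  let g : Γ(Twist.twist 𝒜 ((1 : ℕ) : ℤ), U) :=
    mres (Twist.twist 𝒜 ((1 : ℕ) : ℤ)) le_top (gsec 𝒜 (x ^ 1) (pow_mem 𝒜 hx 1))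
  let t : Γ(Proj 𝒜, U) := (Proj.awayToSection 𝒜 x).hom (frac 𝒜 hx 1 l hl)
  have hgen : Function.Bijective fun r : Γ(Proj 𝒜, U) => r • g := by
    have h := isGen_gsec (𝒜 := 𝒜) hx 1 U le_rfl
    rwa [InvExt.mres_self] at h
  have hst : (show Γ(Twist.twist 𝒜 ((1 : ℕ) : ℤ), U) from PicF2.secVal _ s U) = t • g := by
    refine evT_ext fun y => ?_
    rw [secVal_eq_mres, hs, evT_smul, evT_mres, evT_mres, evT_gsec, evT_gsec, ev_awayToSection_frac,
      ← Localization.mk_one_eq_algebraMap, ← Localization.mk_one_eq_algebraMap, Localization.mk_mul,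
      Localization.mk_eq_mk_iff, Localization.r_iff_exists]
    exact ⟨1, by simp only [OneMemClass.coe_one, one_mul, Submonoid.coe_mul, pow_one]; ring⟩
  ext a
  rw [Ideal.mem_span_singleton']
  constructor
  · intro h
    obtain ⟨(b : Γ(Proj 𝒜, U)), hb⟩ := h g
    refine ⟨b, hgen.1 ?_⟩
    refine Eq.trans ?_ hb.symm
    show (b * t) • g = b • (show Γ(Twist.twist 𝒜 ((1 : ℕ) : ℤ), U) from PicF2.secVal _ s U)
    rw [hst, mul_smul]
  · rintro ⟨b, rfl⟩ m
    obtain ⟨c, hc⟩ := hgen.2 m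
    refine ⟨b * c, ?_⟩
    show (b * t) • (show Γ(Twist.twist 𝒜 ((1 : ℕ) : ℤ), U) from m) =
      (b * c) • (show Γ(Twist.twist 𝒜 ((1 : ℕ) : ℤ), U) from PicF2.secVal _ s U)
    rw [hst, ← hc, smul_smul, smul_smul]
    congr 1
    ring

variable (ψ : 𝒜 →+*ᵍ ℬ) (hψ : ℬ₊ ≤ 𝒜₊.map ψ)

theorem ker_away_map (hker : RingHom.ker ψ = Ideal.span ({l} : Set A)) {x : A} (hx : x ∈ 𝒜 1) :
    RingHom.ker (Away.map ψ x) = Ideal.span {frac 𝒜 hx 1 l hl} := by
  refine le_antisymm (fun z hz => ?_) ((Ideal.span_singleton_le_iff_mem _).mpr ?_)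
  · obtain ⟨n, a, ha, rfl⟩ := Away.mk_surjective 𝒜 hx z
    rw [RingHom.mem_ker, Away.map_mk, ← (HomogeneousLocalization.val_injective _).eq_iff, Away.val_mk,
      HomogeneousLocalization.val_zero, Localization.mk_eq_mk', IsLocalization.mk'_eq_zero_iff] at hz
    obtain ⟨⟨_, j, rfl⟩, hj⟩ := hz
    have ha' : a ∈ 𝒜 n := by simpa using ha
    have hmem : x ^ (j + 1) * a ∈ 𝒜 (j + n + 1) := by
      have := SetLike.mul_mem_graded (pow_mem 𝒜 hx (j + 1)) ha'
      rwa [show j + n + 1 = j + 1 + n by omega]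
    have hin : x ^ (j + 1) * a ∈ Ideal.span ({l} : Set A) := by
      rw [← hker, RingHom.mem_ker, map_mul, map_pow, pow_succ, mul_comm _ (ψ x), mul_assoc]
      exact (congrArg (ψ x * ·) hj).trans (mul_zero _)
    obtain ⟨b, hb, hab⟩ := exists_eq_mul_of_mem_span hl hmem hin
    refine Ideal.mem_span_singleton'.mpr ⟨frac 𝒜 hx (j + n) b hb, ?_⟩
    apply HomogeneousLocalization.val_injective
    rw [HomogeneousLocalization.val_mul, Away.val_mk, Away.val_mk, Away.val_mk, Localization.mk_mul,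
      Localization.mk_eq_mk_iff, Localization.r_iff_exists]
    refine ⟨1, ?_⟩
    simp only [OneMemClass.coe_one, one_mul, Submonoid.coe_mul]
    rw [mul_comm b l, ← hab]
    ring
  · rw [RingHom.mem_ker, Away.map_mk]
    apply HomogeneousLocalization.val_injective
    rw [Away.val_mk, HomogeneousLocalization.val_zero]
    have h0 : ψ l = 0 := by
      rw [← RingHom.mem_ker, hker]
      exact Ideal.mem_span_singleton_self l
    simp only [h0]
    exact Localization.mk_zero _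

include hs in
theorem ker_map_eq_zeroScheme [IsNoetherian (Proj 𝒜)] [Mono s]
    (hL : PicF.IsInvertible (Twist.twist 𝒜 ((1 : ℕ) : ℤ))) [IsClosedImmersion (Proj.map ψ hψ)]
    (hker : RingHom.ker ψ = Ideal.span ({l} : Set A)) {ι : Type u} (x : ι → A) (hx : ∀ i, x i ∈ 𝒜 1)
    (hcov : ⨆ i, Proj.basicOpen 𝒜 (x i) = ⊤) :
    (Proj.map ψ hψ).ker = PicF2.zeroScheme _ s := by
  refine Scheme.IdealSheafData.ext_of_iSup_eq_top (fun i => dPlus 𝒜 (x i) (hx i) one_pos) hcov fun i => ?_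
  rw [Scheme.Hom.ker_apply, zeroScheme_ideal hL s, zeroIdealOn_basicOpen hl s hs (hx i)]
  have hbij := awayToSection_bijective (𝒜 := 𝒜) (x i) (hx i) one_pos
  apply Ideal.comap_injective_of_surjective _ hbij.2
  have hr : Ideal.comap (Proj.awayToSection 𝒜 (x i)).hom
      (Ideal.span {(Proj.awayToSection 𝒜 (x i)).hom (frac 𝒜 (hx i) 1 l hl)}) =
      Ideal.span {frac 𝒜 (hx i) 1 l hl} := by
    have h2 := Ideal.comap_map_of_bijective (Proj.awayToSection 𝒜 (x i)).hom hbij
      (I := Ideal.span {frac 𝒜 (hx i) 1 l hl})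
    rwa [Ideal.map_span, Set.image_singleton] at h2
  rw [hr, RingHom.comap_ker]
  have h := congrArg CommRingCat.Hom.hom
    (Proj.awayToSection_comp_appLE ψ hψ (i := 1) (s := x i) (hx i))
  rw [CommRingCat.hom_comp, CommRingCat.hom_comp] at h
  rw [Scheme.Hom.app_eq_appLE]
  change RingHom.ker (((Proj.map ψ hψ).appLE (Proj.basicOpen 𝒜 (x i))
    (Proj.basicOpen ℬ (ψ (x i))) (by rfl)).hom.comp
      (Proj.awayToSection 𝒜 (x i)).hom) = _
  rw [h, RingHom.ker_comp_of_injective _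
    (awayToSection_bijective (ψ (x i)) (ψ.2 (hx i)) one_pos).1]
  exact ker_away_map hl ψ hker (hx i)

end GrothLib.Hyperplane
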