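import Groth.Agent.Lib.Ample.ProjTwist
import Mathlib.RingTheory.GradedAlgebra.Radical
import Mathlib.RingTheory.Polynomial.UniqueFactorization
import Mathlib.Algebra.MvPolynomial.Division
import Mathlib.RingTheory.UniqueFactorizationDomain.Ideal

/-!
# Global sections of `O(d)` on projective space over a unique factorization domain
-/

universe u

set_option backward.isDefEq.respectTransparency false

open AlgebraicGeometry CategoryTheory CategoryTheory.Limits TopologicalSpace Opposite HomogeneousIdeal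
open DirectSum MvPolynomial
open GrothLib.InvExt (mres)
open GrothLib.Ample.ProjTwist

noncomputable section

namespace GrothLib.Hyperplane

section General

variable {R A : Type u} [CommRing R] [CommRing A] [Algebra R A] {𝒜 : ℕ → Submodule R A} [GradedAlgebra 𝒜]

/-- Local representation of a section of a twist by a single fraction. -/
theorem exists_local_frac {d : ℕ} (m : Γ(Twist.twist 𝒜 (d : ℤ), ⊤)) (y : Proj 𝒜) :
    ∃ (V : (Proj 𝒜).Opens) (_ : y ∈ V) (p q : ℕ) (a f : A) (nin : ∀ z : V, f ∉ z.1.asHomogeneousIdeal),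
      a ∈ 𝒜 p ∧ f ∈ 𝒜 q ∧ (p = q + d ∨ a = 0) ∧
      ∀ z : V, evT (⟨z.1, trivial⟩ : (⊤ : (Proj 𝒜).Opens)) m = Localization.mk a ⟨f, nin z⟩ := by
  obtain ⟨V, hyV, iV, p, q, ⟨a, ha⟩, ⟨f, hf⟩, nin, hdeg, hw⟩ :=
    (show Twist.sectN (d : ℤ) (op ⊤) from m).2 ⟨y, trivial⟩
  refine ⟨V, hyV, p, q, a, f, nin, ha, hf, ?_, fun z => hw z⟩
  replace hdeg : (p : ℤ) = q + d ∨ a = 0 := hdeg
  exact hdeg.imp (fun h => by omega) id

theorem gsec_injective [IsDomain A] [Nonempty (Proj 𝒜)] {d : ℕ} {a b : A} (ha : a ∈ 𝒜 d) (hb : b ∈ 𝒜 d)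
    (h : gsec 𝒜 a ha = gsec 𝒜 b hb) : a = b := by
  obtain ⟨y⟩ := ‹Nonempty (Proj 𝒜)›
  have e := congrArg (evT (⟨y, trivial⟩ : (⊤ : (Proj 𝒜).Opens))) h
  rw [evT_gsec, evT_gsec] at e
  exact IsLocalization.injective (Twist.Loc 𝒜 y) y.asHomogeneousIdeal.toIdeal.primeCompl_le_nonZeroDivisors e

end General

variable {N : ℕ} {R : Type u} [CommRing R] [IsDomain R] [UniqueFactorizationMonoid R]

local notation "P" => CohB1.polyGrading (N + 1) R
local notation "A" => MvPolynomial (Fin (N + 1 + 1)) R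

/-- The generic point. -/
def etaPt (N : ℕ) (R : Type u) [CommRing R] [IsDomain R] : Proj (CohB1.polyGrading (N + 1) R) where
  asHomogeneousIdeal := ⊥
  isPrime := Ideal.isPrime_bot
  not_irrelevant_le h := by
    have hm : (X 0 : MvPolynomial (Fin (N + 1 + 1)) R) ∈
        (HomogeneousIdeal.irrelevant (CohB1.polyGrading (N + 1) R)).toIdeal :=
      HomogeneousIdeal.mem_irrelevant_of_mem _ one_pos (isHomogeneous_X R 0)
    exact MvPolynomial.X_ne_zero (R := R) (0 : Fin (N + 1 + 1)) (Ideal.mem_bot.mp (h hm))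

theorem eta_mem {y : Proj P} {V : (Proj P).Opens} (hy : y ∈ V) : etaPt N R ∈ V := by
  refine Specializes.mem_open ?_ V.2 hy
  rw [specializes_iff_mem_closure]
  exact (ProjectiveSpectrum.le_iff_mem_closure (CohB1.polyGrading (N + 1) R) (etaPt N R) y).mp
    ((bot_le : (⊥ : HomogeneousIdeal (CohB1.polyGrading (N + 1) R)) ≤ y.asHomogeneousIdeal))

/-- Every global section of `O(d)` comes from a form of degree `d`. -/
theorem exists_eq_gsec {d : ℕ} (m : Γ(Twist.twist P (d : ℤ), ⊤)) :
    ∃ (a : A) (ha : a ∈ P d), m = gsec P a ha := by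
  choose V hyV p q a f nin ha hf hdeg hval using exists_local_frac (𝒜 := P) m
  let η := etaPt N R
  have hkey : ∀ y, a y * f η = a η * f y := by
    intro y
    have h := (hval y ⟨η, eta_mem (hyV y)⟩).symm.trans (hval η ⟨η, hyV η⟩)
    rw [Localization.mk_eq_mk_iff, Localization.r_iff_exists] at h
    obtain ⟨c, hc⟩ := h
    have hc0 : (c : A) ≠ 0 := fun h0 => c.2 (by rw [h0]; exact zero_mem _)
    linear_combination mul_left_cancel₀ hc0 hc
  have hfη : f η ≠ 0 := fun h0 => nin η ⟨η, hyV η⟩ (by rw [h0]; exact zero_mem _)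
  obtain ⟨a', f', c, hrel, hca, hcf⟩ := UniqueFactorizationMonoid.exists_reduced_factors' (a η) (f η) hfη
  have hc : c ≠ 0 := fun h0 => hfη (by rw [← hcf, h0, zero_mul])
  have hkey' : ∀ y, a y * f' = a' * f y := fun y => mul_left_cancel₀ hc (by
    linear_combination hkey y + (a y) * hcf - (f y) * hca)
  have hdvd : ∀ y, f' ∣ f y := fun y =>
    (IsRelPrime.symm hrel).dvd_of_dvd_mul_left ⟨a y, by rw [mul_comm f' (a y)]; exact (hkey' y).symm⟩
  have hunit : IsUnit f' := by
    by_contra hnu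
    have hf0 : f' ≠ 0 := fun h0 => hfη (by rw [← hcf, h0, mul_zero])
    obtain ⟨π, hπi, hπ⟩ := WfDvdMonoid.exists_irreducible_factor hnu hf0
    have hπp : Prime π := UniqueFactorizationMonoid.irreducible_iff_prime.mp hπi
    have hI : (Ideal.span ({π} : Set A)).IsPrime := (Ideal.span_singleton_prime hπp.ne_zero).mpr hπp
    let J := (Ideal.span ({π} : Set A)).homogeneousCore P
    have hJle : J.toIdeal ≤ Ideal.span {π} := Ideal.toIdeal_homogeneousCore_le _ _
    have hJ : J.toIdeal.IsPrime := hI.homogeneousCore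
    have hfJ : f η ∈ J.toIdeal := Ideal.mem_homogeneousCore_of_homogeneous_of_mem ⟨_, hf η⟩
      (Ideal.mem_span_singleton.mpr (hπ.trans (hdvd η)))
    have hJ0 : J.toIdeal ≠ ⊥ := fun h0 => hfη (Ideal.mem_bot.mp (h0 ▸ hfJ))
    obtain ⟨r, hrJ, hr⟩ := Ideal.IsPrime.exists_mem_prime_of_ne_bot hJ hJ0
    have hassoc : Associated π r :=
      hπp.associated_of_dvd hr (Ideal.mem_span_singleton.mp (hJle hrJ))
    have hπJ : π ∈ J.toIdeal := Ideal.mem_of_dvd _ hassoc.symm.dvd hrJ
    have hrelv : ¬ (HomogeneousIdeal.irrelevant P ≤ J) := fun hle => by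
      have hX : ∀ i : Fin (N + 1 + 1), π ∣ X i := fun i => Ideal.mem_span_singleton.mp
        (hJle (hle (HomogeneousIdeal.mem_irrelevant_of_mem _ one_pos (isHomogeneous_X R i))))
      have h0 := hπp.associated_of_dvd (MvPolynomial.X_prime (i := (0 : Fin (N + 1 + 1)))) (hX 0)
      have h1 := hπp.associated_of_dvd (MvPolynomial.X_prime (i := (Fin.last (N + 1)))) (hX _)
      have h01 := (h0.symm.trans h1).dvd
      rw [MvPolynomial.X_dvd_X] at h01
      simp [Fin.ext_iff] at h01
    let y : Proj P := ⟨J, hJ, hrelv⟩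
    exact nin y ⟨y, hyV y⟩ (J.toIdeal.mem_of_dvd (hπ.trans (hdvd y)) hπJ)
  obtain ⟨v, hv⟩ := hunit
  let g : A := a' * ↑v⁻¹
  have hg : ∀ y, a y = g * f y := fun y => by
    have h := hkey' y
    rw [← hv] at h
    calc a y = a y * ↑v * ↑v⁻¹ := (Units.mul_inv_cancel_right _ _).symm
      _ = g * f y := by rw [h]; ring
  have hgd : g ∈ P d := by
    rcases hdeg η with hpq | h0
    · have h1 := DirectSum.coe_decompose_mul_of_right_mem_of_le P (a := g) (n := p η) (hf η) (by omega)
      rw [← hg η, DirectSum.decompose_of_mem_same P (ha η), hpq, Nat.add_sub_cancel_left] at h1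
      have h2 : g = (decompose P g d : A) := mul_right_cancel₀ hfη ((hg η).symm.trans h1)
      rw [h2]
      exact (decompose P g d).2
    · have : g = 0 := (mul_eq_zero.mp ((hg η).symm.trans h0)).resolve_right hfη
      rw [this]
      exact zero_mem _
  refine ⟨g, hgd, evT_ext fun y => ?_⟩
  rw [evT_gsec, ← Localization.mk_one_eq_algebraMap]
  refine (hval y.1 ⟨y.1, hyV y.1⟩).trans ?_
  rw [Localization.mk_eq_mk_iff, Localization.r_iff_exists]
  exact ⟨1, by simp only [OneMemClass.coe_one, one_mul]; rw [hg y.1]; ring⟩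

end GrothLib.Hyperplane
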